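import Cfsg.Agent.Lib.PSLAut.Kernel

/-!
# The automorphisms of a finite field are the powers of Frobenius
-/

set_option autoImplicit false

namespace Cfsg.Agent.Lib.PSpAutFour

variable {F : Type*} [Field F]

theorem exists_frob_pow [Fintype F] {p f : ℕ} [Fact p.Prime] (hF : Fintype.card F = p ^ f) (φ : F ≃+* F)
    (hφ : ∀ x, φ x = x ^ p) (σ : F ≃+* F) : ∃ i : ℕ, σ = φ ^ i := by
  classical
  haveI : Finite (F ≃+* F) := Finite.of_injective _ DFunLike.coe_injective
  have hk : ∀ (k : ℕ) (x : F), (φ ^ k) x = x ^ p ^ k := by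
    intro k
    induction k with
    | zero => intro x; simp
    | succ k ih => intro x; rw [pow_succ', RingAut.mul_apply, ih, hφ, ← pow_mul, pow_succ]
  have hp : 1 < p := (Fact.out : p.Prime).one_lt
  have hle : f ≤ orderOf φ := by
    by_contra hlt
    have hpos : 0 < orderOf φ := orderOf_pos φ
    have hP := FiniteField.X_pow_card_sub_X_natDegree_eq F (Nat.one_lt_pow hpos.ne' hp)
    have hne := FiniteField.X_pow_card_sub_X_ne_zero F (Nat.one_lt_pow hpos.ne' hp)
    have hsub : (Finset.univ : Finset F)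
        ⊆ (Polynomial.X ^ (p ^ orderOf φ) - Polynomial.X : Polynomial F).roots.toFinset := fun x _ => by
      rw [Multiset.mem_toFinset, Polynomial.mem_roots hne]
      simp [← hk, pow_orderOf_eq_one φ]
    have h2 := (Finset.card_le_card hsub).trans
      ((Multiset.toFinset_card_le _).trans (Polynomial.card_roots' _))
    rw [Finset.card_univ, hF, hP] at h2
    exact absurd h2 (not_le.2 (Nat.pow_lt_pow_right hp (not_le.1 hlt)))
  have htop : Subgroup.zpowers φ = ⊤ := by
    refine Subgroup.eq_top_of_le_card _ ?_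
    rw [PSLAut.card_ringEquiv hF, Nat.card_zpowers]
    exact hle
  obtain ⟨i, hi⟩ := (mem_powers_iff_mem_zpowers).2 (htop ▸ Subgroup.mem_top σ)
  exact ⟨i, hi.symm⟩

end Cfsg.Agent.Lib.PSpAutFour
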