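import Cfsg.Agent.Lib.SymAut.SixPoints
import Cfsg.Prelude.Def_KGroupFacts

/-!
# The outer automorphism group of the symmetric group of degree six has order two
-/

set_option autoImplicit false

namespace Cfsg.Agent.Lib.PSpAutFour

open Equiv Equiv.Perm SymAut

variable {α : Type*} [Fintype α] [DecidableEq α]

/-- An automorphism permuting the point stabilisers is inner. -/
theorem mem_inn_of_stabilizers (h3 : 3 ≤ Nat.card α) (ψ : MulAut (Perm α)) (π : α → α)
    (hπ : ∀ x, (MulAction.stabilizer (Perm α) x).map ψ.toMonoidHom = MulAction.stabilizer (Perm α) (π x)) :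
    ψ ∈ Cfsg.Inn (Perm α) := by
  have hinj : Function.Injective π := fun x y h => stabilizer_injective h3
    (Subgroup.map_injective (f := ψ.toMonoidHom) ψ.injective (by rw [hπ, hπ, h]))
  let P : Perm α := Equiv.ofBijective π (Finite.injective_iff_bijective.1 hinj)
  refine ⟨P, MulEquiv.ext fun g => Equiv.ext fun y => ?_⟩
  obtain ⟨x, rfl⟩ := P.surjective y
  have h1 : π (g x) = ψ g (π x) := by
    apply stabilizer_injective h3
    show MulAction.stabilizer (Perm α) (π (g x)) = MulAction.stabilizer (Perm α) (ψ g (π x))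
    rw [← hπ, show g x = g • x from rfl, show ψ g (π x) = ψ g • π x from rfl,
      MulAction.stabilizer_smul_eq_stabilizer_map_conj, MulAction.stabilizer_smul_eq_stabilizer_map_conj,
      ← hπ, Subgroup.map_map, Subgroup.map_map]
    congr 1
    ext σ
    simp
  show (P * g * P⁻¹) (P x) = ψ g (P x)
  simp only [Perm.mul_apply, Perm.coe_inv, Equiv.symm_apply_apply]
  exact h1

/-- An automorphism carrying one point stabiliser to another permutes all of them. -/
theorem mem_inn_of_stabilizer (h5 : 5 ≤ Nat.card α) (ψ : MulAut (Perm α)) {x a : α}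
    (h : (MulAction.stabilizer (Perm α) x).map ψ.toMonoidHom = MulAction.stabilizer (Perm α) a) :
    ψ ∈ Cfsg.Inn (Perm α) := by
  haveI : Nontrivial α := Finite.one_lt_card_iff_nontrivial.1 (by omega)
  have hall : ∀ y : α, ∃ b : α, (MulAction.stabilizer (Perm α) y).map ψ.toMonoidHom
      = MulAction.stabilizer (Perm α) b := by
    intro y
    obtain ⟨g, hg⟩ := MulAction.exists_smul_eq (Perm α) x y
    refine ⟨ψ g • a, ?_⟩
    rw [← hg, MulAction.stabilizer_smul_eq_stabilizer_map_conj, MulAction.stabilizer_smul_eq_stabilizer_map_conj,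
      ← h, Subgroup.map_map, Subgroup.map_map]
    congr 1
    ext σ
    simp
  choose π hπ using hall
  exact mem_inn_of_stabilizers (by omega) ψ π hπ

theorem natCard_out_perm_six (h6 : Nat.card α = 6) : Nat.card (Cfsg.Out (Perm α)) = 2 := by
  obtain ⟨ψ, hψ, hall⟩ := exists_outer h6
  haveI : Nonempty α := (Finite.card_pos_iff).1 (by omega)
  obtain ⟨x₀⟩ : Nonempty α := inferInstance
  let t : Cfsg.Out (Perm α) := QuotientGroup.mk (s := Cfsg.Inn (Perm α)) (ψ : MulAut (Perm α))
  have hne : t ≠ 1 := by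
    intro h
    obtain ⟨g, hg⟩ := (QuotientGroup.eq_one_iff _).1 h
    refine hψ x₀ (g • x₀) ?_
    rw [MulAction.stabilizer_smul_eq_stabilizer_map_conj]
    congr 1
    rw [← hg]
  have hcases : ∀ y : Cfsg.Out (Perm α), y = 1 ∨ y = t := by
    intro y
    obtain ⟨φ, rfl⟩ := QuotientGroup.mk_surjective y
    rcases hall _ ((index_map_stabilizer φ x₀).trans h6) with ⟨a, ha | ha⟩
    · exact Or.inl ((QuotientGroup.eq_one_iff _).2 (mem_inn_of_stabilizer (by omega) φ ha))
    · refine Or.inr ?_
      have h : (ψ⁻¹ * φ : MulAut (Perm α)) ∈ Cfsg.Inn (Perm α) := by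
        refine mem_inn_of_stabilizer (by omega) (x := x₀) (a := a) _ ?_
        rw [show ((ψ⁻¹ * φ : MulAut (Perm α)) : Perm α ≃* Perm α).toMonoidHom
          = (ψ.symm.toMonoidHom).comp φ.toMonoidHom from rfl, ← Subgroup.map_map, ha, Subgroup.map_map]
        rw [show (ψ.symm.toMonoidHom).comp ψ.toMonoidHom = MonoidHom.id _ from
          MonoidHom.ext fun g => ψ.symm_apply_apply g, Subgroup.map_id]
      exact (QuotientGroup.eq.2 h).symm
  rw [Nat.card_eq_two_iff]
  refine ⟨1, t, hne.symm, Set.eq_univ_of_forall fun y => ?_⟩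
  rcases hcases y with h | h <;> simp [h]

end Cfsg.Agent.Lib.PSpAutFour
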