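import Cfsg.Agent.Lib.PSpAut.Card
import Cfsg.Agent.Lib.PSpAut.FieldBalance
import Cfsg.Agent.Lib.PSpAutFour.Frobenius
import Cfsg.Agent.Lib.PSpAutFour.SixPoints
import Cfsg.Agent.S0247

/-!
# `Out(PSp_4(2^f))` is cyclic of order `2 f`
-/

set_option autoImplicit false

namespace Cfsg.Agent.Lib.PSpAutFour

open Matrix PSpAut

section Transfer

/-- Isomorphic groups have isomorphic outer automorphism groups. -/
theorem natCard_out_congr {G H : Type*} [Group G] [Group H] (e : G ≃* H) :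
    Nat.card (Cfsg.Out G) = Nat.card (Cfsg.Out H) := by
  refine Nat.card_congr (QuotientGroup.congr (Cfsg.Inn G) (Cfsg.Inn H) (MulAut.congr e) ?_).toEquiv
  ext x
  constructor
  · rintro ⟨_, ⟨g, rfl⟩, rfl⟩
    exact ⟨e g, MulEquiv.ext fun y => by simp [MulAut.congr]⟩
  · rintro ⟨h, rfl⟩
    exact ⟨_, ⟨e.symm h, rfl⟩, MulEquiv.ext fun y => by simp [MulAut.congr]⟩

end Transfer

variable {F : Type*} [Field F] [Fintype F]

local notation "Sp₄'" => (Matrix.symplecticGroup (Fin 2) F)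

section Graph

variable (h2 : (2 : F) = 0)
include h2

/-- The image of a long root element. -/
theorem graphHom_tp (c : F) : graphHom h2 (tp (ev 0) c)
    = proj (sx (!![0, c; c, 0] : Matrix (Fin 2) (Fin 2) F)
        (by ext i j; fin_cases i <;> fin_cases j <;> rfl)) := by
  have hn : -c = c := by linear_combination (-c) * h2
  rw [show tp (ev (0 : Fin 2)) c = proj (sx (Matrix.single 0 0 c) (by
    ext i j; fin_cases i <;> fin_cases j <;> rfl)) from (sx_single_eq_tp _ _ _).symm, graphHom_proj]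
  refine congrArg proj (Subtype.ext ?_)
  show (Cfsg.Lie.star4 _).submatrix idx4 idx4 = Matrix.fromBlocks 1 _ 0 1
  ext a b
  rcases a with a | a <;> rcases b with b | b <;> fin_cases a <;> fin_cases b <;>
    simp [idx4, Cfsg.Lie.star4, Cfsg.Lie.pairOf, coe_sx, hn]

/-- The image of a short root element. -/
theorem graphHom_short (c : F) : graphHom h2 (proj (sx (!![0, c; c, 0] : Matrix (Fin 2) (Fin 2) F)
    (by ext i j; fin_cases i <;> fin_cases j <;> rfl))) = tp (ev 0) (c ^ 2) := by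
  have hn : -c = c := by linear_combination (-c) * h2
  rw [graphHom_proj, ← sx_single_eq_tp (0 : Fin 2) (c ^ 2) (by
    ext i j; fin_cases i <;> fin_cases j <;> rfl)]
  refine congrArg proj (Subtype.ext ?_)
  show (Cfsg.Lie.star4 _).submatrix idx4 idx4 = Matrix.fromBlocks 1 _ 0 1
  ext a b
  rcases a with a | a <;> rcases b with b | b <;> fin_cases a <;> fin_cases b <;>
    simp [idx4, Cfsg.Lie.star4, Cfsg.Lie.pairOf, coe_sx, sq]

omit h2 [Fintype F] in
theorem semilinear_tvSet (g : GSpT 2 F) (σ : F ≃+* F) {v : Fin 2 ⊕ Fin 2 → F} (hv : v ≠ 0)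
    {c : F} (hc : c ≠ 0) : (conj g * fieldAut σ : MulAut (Cfsg.PSp 2 F)) (tp v c) ∈ tvSet 2 F := by
  rw [MulAut.mul_apply, fieldAut_tp, conj_tp]
  exact tp_mem_tvSet (gv_ne_zero _ (sv_ne_zero σ hv)) (mul_ne_zero (by simpa using hc) (Units.ne_zero _))

/-- The square of the graph automorphism is the Frobenius, up to inner automorphisms. -/
theorem graphAut4_sq (hq : 3 ≤ Fintype.card F) :
    ∃ φ : F ≃+* F, (∀ x, φ x = x ^ 2) ∧
      (graphAut4 h2 hq * graphAut4 h2 hq * (fieldAut φ)⁻¹ : MulAut (Cfsg.PSp 2 F))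
        ∈ Cfsg.Inn (Cfsg.PSp 2 F) := by
  set τ := graphAut4 h2 hq with hτ
  have key : ∀ c : F, (τ * τ) (tp (ev 0) c) = tp (ev 0) (c ^ 2) := by
    intro c
    show graphHom h2 (graphHom h2 (tp (ev 0) c)) = _
    rw [graphHom_tp h2, graphHom_short h2]
  obtain ⟨ε, g, σ, hε, hα⟩ := exists_eq_graph_mul h2 hq (τ * τ)
  have he0 : (ev (0 : Fin 2) : Fin 2 ⊕ Fin 2 → F) ≠ 0 := LinGroup.isoVec_ne_zero _
  rcases hε with rfl | rfl
  · rw [one_mul] at hα
    have hc : ∀ c : F, tp (gv g.1 (sv σ (ev 0))) (σ c * (((mult g)⁻¹ : Fˣ) : F)) = tp (ev 0) (c ^ 2) := by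
      intro c
      rw [← key c, hα, MulAut.mul_apply, fieldAut_tp, conj_tp]
    rw [sv_ev] at hc
    set K : F := (((mult g)⁻¹ : Fˣ) : F)
    have hgv : gv g.1 (ev 0) ≠ (0 : Fin 2 ⊕ Fin 2 → F) := gv_ne_zero _ he0
    obtain ⟨a, ha⟩ := Submodule.mem_span_singleton.1 (mem_span_of_tp_eq le_rfl hgv
      (mul_ne_zero (by simp) (Units.ne_zero _)) (hc 1))
    have hd : ∀ c : F, σ c * K * (a * a) = c ^ 2 := by
      intro c
      have h := hc c
      rw [← ha, tp_smul] at h
      exact tp_injective le_rfl he0 h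
    have h1 := hd 1
    rw [map_one, one_mul, one_pow] at h1
    refine ⟨σ, fun x => by rw [← hd x, mul_assoc, h1, mul_one], ?_⟩
    rw [hα, mul_inv_cancel_right]
    exact conj_mem_inn_of_two le_rfl h2 g
  · exfalso
    have h3 : τ = conj g * fieldAut σ := mul_left_cancel hα
    refine shortElt_notMem_tvSet h2 ?_
    rw [← graphAut4_long h2 hq, ← hτ, h3]
    exact semilinear_tvSet g σ he0 one_ne_zero

end Graph

theorem out_psp_four {f : ℕ} (hf : 1 ≤ f) (hF : Fintype.card F = 2 ^ f) :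
    IsCyclic (Cfsg.Out (Cfsg.PSp 2 F)) ∧ Nat.card (Cfsg.Out (Cfsg.PSp 2 F)) = 2 * f := by
  classical
  haveI : CharP F 2 := charP_of_card_eq_prime_pow hF
  have h2 : (2 : F) = 0 := by exact_mod_cast CharP.cast_eq_zero F 2
  rcases Nat.eq_or_lt_of_le hf with rfl | hf2
  · obtain ⟨e⟩ := S0247.result (F := F) (by simpa using hF)
    let e' : Cfsg.PSp 2 F ≃* Equiv.Perm (Fin 6) :=
      (MulEquiv.ofBijective proj ⟨proj_injective h2, proj_surjective⟩).symm.trans e
    have h : Nat.card (Cfsg.Out (Cfsg.PSp 2 F)) = 2 := by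
      rw [natCard_out_congr e']
      exact natCard_out_perm_six (by simp)
    haveI : Fact (Nat.Prime 2) := ⟨Nat.prime_two⟩
    exact ⟨isCyclic_of_prime_card h, by rw [h]⟩
  · have hq : 3 ≤ Fintype.card F := by
      rw [hF]
      exact le_trans (by norm_num) (Nat.pow_le_pow_right (by norm_num : 1 ≤ 2) hf2)
    obtain ⟨φ, hφ, hsq⟩ := graphAut4_sq h2 hq
    let M := QuotientGroup.mk' (Cfsg.Inn (Cfsg.PSp 2 F))
    let t := M (graphAut4 h2 hq)
    have hF2 : M (fieldAut φ) = t * t := by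
      have := (QuotientGroup.eq_one_iff _).2 hsq
      change M _ = 1 at this
      rw [map_mul, map_mul, map_inv, mul_inv_eq_one] at this
      exact this.symm
    have hgen : ∀ y, y ∈ Subgroup.zpowers t := by
      intro y
      obtain ⟨α, rfl⟩ := QuotientGroup.mk'_surjective _ y
      obtain ⟨ε, g, σ, hε, rfl⟩ := exists_eq_graph_mul h2 hq α
      obtain ⟨i, rfl⟩ := exists_frob_pow hF φ hφ σ
      change M _ ∈ _
      rw [map_mul, map_mul, map_pow, map_pow, hF2,
        show M (conj g) = 1 from (QuotientGroup.eq_one_iff _).2 (conj_mem_inn_of_two le_rfl h2 g), one_mul]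
      refine mul_mem ?_ (pow_mem (mul_mem (Subgroup.mem_zpowers t) (Subgroup.mem_zpowers t)) i)
      rcases hε with rfl | rfl
      · rw [map_one]; exact one_mem _
      · exact Subgroup.mem_zpowers t
    refine ⟨⟨⟨t, hgen⟩⟩, ?_⟩
    haveI : Fact (Nat.Prime 2) := ⟨Nat.prime_two⟩
    have hK : IsSimpleGroup (Cfsg.PSp 2 F) := LinGroup.isSimpleGroup_PSp (F := F) (m := 2) le_rfl fun _ => hq
    have hinn : Nat.card ↥(Cfsg.Inn (Cfsg.PSp 2 F)) = Nat.card (Cfsg.PSp 2 F) :=
      (Nat.card_congr (MonoidHom.ofInjective (psp_conj_injective le_rfl hK)).toEquiv).symm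
    have h := natCard_mulAut_psp (m := 2) hF le_rfl (fun _ => hF ▸ hq)
    rw [if_pos ⟨rfl, rfl⟩, Subgroup.card_eq_card_quotient_mul_card_subgroup (Cfsg.Inn (Cfsg.PSp 2 F)), hinn,
      show Nat.gcd 2 (2 ^ f - 1) = 1 from by
        refine Nat.Coprime.gcd_eq_one ((Nat.prime_two.coprime_iff_not_dvd).2 ?_)
        have : 2 ∣ 2 ^ f := dvd_pow_self 2 (by omega)
        have : 0 < 2 ^ f := by positivity
        omega, mul_one] at h
    exact Nat.eq_of_mul_eq_mul_right Nat.card_pos h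

end Cfsg.Agent.Lib.PSpAutFour
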